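import Cfsg.Agent.Lib.CurtisTits.Rels
import Cfsg.Agent.Lib.GL.Simple

/-!
Steinberg relations and homomorphisms out of `SL n K`.
-/

set_option autoImplicit false

namespace Cfsg.Agent.CurtisTits

open SL2Presentation Matrix

variable {K : Type*} [Field K] {G : Type*} [Group G] {n : ℕ}

theorem transvection_comm {i j k l : Fin n} (hij : i ≠ j) (hkl : k ≠ l) (hil : i ≠ l) (hjk : j ≠ k) (t u : K) :
    Commute (SpecialLinearGroup.transvection hij t) (SpecialLinearGroup.transvection hkl u) := by
  apply SpecialLinearGroup.coeMonoidHom_injective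
  simp only [map_mul, SpecialLinearGroup.coeMonoidHom_apply, SpecialLinearGroup.transvection_coe, mul_add, add_mul, one_mul, mul_one,
    Matrix.single_mul_single_of_ne t i j k hjk u, Matrix.single_mul_single_of_ne u k l i hil.symm t]
  abel

/-- The relations defined by a homomorphism out of `SL n K`. -/
def ofHom (φ : SpecialLinearGroup (Fin n) K →* G) : Rels K n G where
  x i j t := if h : i ≠ j then φ (SpecialLinearGroup.transvection h t) else 1
  add i j h t u := by simp only [dif_pos h, ← map_mul, SpecialLinearGroup.transvection_add]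
  comm i j k l h1 h2 h3 h4 t u := by
    simp only [dif_pos h1, dif_pos h2, ← map_mul]
    exact congrArg φ (transvection_comm h1 h2 h3 h4 t u).eq
  chain i j l h1 h2 h3 t u := by
    simp only [dif_pos h1, dif_pos h2, dif_pos h3, ← map_mul]
    rw [← GL.commutator_transvection h1 h2 h3 t u, commutatorElement_def]
    congr 1
    group

theorem ofHom_x (φ : SpecialLinearGroup (Fin n) K →* G) {i j : Fin n} (h : i ≠ j) (t : K) :
    (ofHom φ).x i j t = φ (SpecialLinearGroup.transvection h t) := dif_pos h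

/-- The Steinberg relations define a homomorphism out of `SL n K`. -/
theorem exists_hom [Finite K] (hn : 3 ≤ n) (S : Rels K n G) :
    ∃ Ψ : SpecialLinearGroup (Fin n) K →* G,
      ∀ (i j : Fin n) (h : i ≠ j) (t : K), Ψ (SpecialLinearGroup.transvection h t) = S.x i j t := by
  obtain ⟨e, he⟩ := S2401.result (K := K) n hn
  let f : ({ij : Fin n × Fin n // ij.1 ≠ ij.2} × K) → G := fun a => S.x a.1.1.1 a.1.1.2 a.2
  refine ⟨(PresentedGroup.toGroup (f := f) ?_).comp e.symm.toMonoidHom, fun i j h t => ?_⟩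
  · rintro r ((⟨a, t, u, rfl⟩ | ⟨a, b, t, u, h1, h2, rfl⟩) | ⟨a, b, h, t, u, h2, rfl⟩)
    · simp only [map_mul, map_inv, FreeGroup.lift_apply_of, f]
      rw [S.add _ _ a.2, mul_inv_cancel]
    · simp only [map_mul, map_inv, FreeGroup.lift_apply_of, f]
      rw [S.comm _ _ _ _ a.2 b.2 h1 h2, mul_inv_cancel_right, mul_inv_cancel]
    · simp only [map_mul, map_inv, FreeGroup.lift_apply_of, f]
      rw [← h2, S.chain _ _ _ a.2 (h2 ▸ b.2) h]
      group
  · rw [MonoidHom.comp_apply, MulEquiv.coe_toMonoidHom]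
    have h2 : e.symm (SpecialLinearGroup.transvection h t) = PresentedGroup.of (⟨(i, j), h⟩, t) := by
      rw [MulEquiv.symm_apply_eq]
      refine Subtype.ext ?_
      rw [he]
      rfl
    rw [h2, PresentedGroup.toGroup.of]

/-- The image is generated by the root elements. -/
theorem range_hom (S : Rels K n G) (Ψ : SpecialLinearGroup (Fin n) K →* G)
    (hΨ : ∀ (i j : Fin n) (h : i ≠ j) (t : K), Ψ (SpecialLinearGroup.transvection h t) = S.x i j t) :
    Ψ.range = Subgroup.closure {g | ∃ i j, i ≠ j ∧ ∃ t, g = S.x i j t} := by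
  rw [MonoidHom.range_eq_map, ← GL.closure_elementaryTransvections, MonoidHom.map_closure]
  congr 1
  ext g
  constructor
  · rintro ⟨_, ⟨i, j, h, c, rfl⟩, rfl⟩
    exact ⟨i, j, h, c, hΨ i j h c⟩
  · rintro ⟨i, j, h, t, rfl⟩
    exact ⟨_, ⟨i, j, h, t, rfl⟩, hΨ i j h t⟩

end Cfsg.Agent.CurtisTits
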