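import Cfsg.Agent.S2401

/-!
Gluing Steinberg relations along a chain: relations of rank `n - 1` and relations of rank two which
agree on a common rank one block and otherwise commute give relations of rank `n`.
-/

set_option autoImplicit false

namespace Cfsg.Agent.CurtisTits

open SL2Presentation

variable {K : Type*} [Field K] {G : Type*} [Group G] {n : ℕ}

/-- The relations of a subset of the indices. -/
def restrict {m : ℕ} (S : Rels K n G) (f : Fin m → Fin n) (hf : Function.Injective f) : Rels K m G where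
  x i j t := S.x (f i) (f j) t
  add i j h := S.add _ _ (hf.ne h)
  comm i j k l h1 h2 h3 h4 := S.comm _ _ _ _ (hf.ne h1) (hf.ne h2) (hf.ne h3) (hf.ne h4)
  chain i j l h1 h2 h3 := S.chain _ _ _ (hf.ne h1) (hf.ne h2) (hf.ne h3)

/-- Composition with inverse transpose. -/
def dual (S : Rels K n G) : Rels K n G where
  x i j t := S.x j i (-t)
  add i j h t u := by rw [neg_add, S.add j i h.symm]
  comm i j k l h1 h2 h3 h4 t u := S.comm j i l k h1.symm h2.symm h4 h3 (-t) (-u)
  chain i j l h1 h2 h3 t u := by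
    have h := S.chain l j i h2.symm h1.symm h3.symm (-u) (-t)
    rw [show -u * -t = t * u by ring] at h
    rw [S.x_neg h3.symm, mul_assoc (S.x l i (t * u))⁻¹, h]
    group

/-- Diagonal and field automorphisms. -/
def twist (S : Rels K n G) (d : Fin n → Kˣ) (σ : K →+* K) : Rels K n G where
  x i j t := S.x i j ((d i : K) * (d j : K)⁻¹ * σ t)
  add i j h t u := by rw [map_add, mul_add, S.add i j h]
  comm i j k l h1 h2 h3 h4 t u := S.comm i j k l h1 h2 h3 h4 _ _
  chain i j l h1 h2 h3 t u := by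
    rw [S.chain i j l h1 h2 h3]
    congr 3
    have hj := (d j).ne_zero
    rw [map_mul]; field_simp

theorem w_braid (S : Rels K n G) {i j k : Fin n} (hij : i ≠ j) (hki : k ≠ i) (hkj : k ≠ j) :
    S.w j i (-1) = S.w i j 1 := by
  have h := S.rel_of_third hij hki hkj 1 1 one_ne_zero
  rw [mul_inv_eq_iff_eq_mul] at h
  simp only [Rels.w, inv_one, one_pow, mul_one, inv_neg, neg_neg] at h ⊢
  have e : S.x i j 1 * S.x j i (-1) * S.x i j 1 * S.x i j 1 =
      S.x j i (-1) * S.x i j 1 * S.x j i (-1) * S.x i j 1 := by rw [h]; group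
  exact (mul_right_cancel e).symm

theorem w_y_one (S : Rels K n G) {i j k : Fin n} (hij : i ≠ j) (hki : k ≠ i) (hkj : k ≠ j) (v : K) :
    S.w i j 1 * S.x j i v * (S.w i j 1)⁻¹ = S.x i j (-v) := by
  rw [← w_braid S hij hki hkj, S.rel_of_third hij.symm hkj hki _ _ (by simp)]
  congr 1
  norm_num

theorem chain_conj {A B C : G} (g : G) (h : A * B = C * B * A) :
    g * A * g⁻¹ * (g * B * g⁻¹) = g * C * g⁻¹ * (g * B * g⁻¹) * (g * A * g⁻¹) :=
  calc g * A * g⁻¹ * (g * B * g⁻¹) = g * (A * B) * g⁻¹ := by group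
    _ = g * (C * B * A) * g⁻¹ := by rw [h]
    _ = _ := by group

theorem conj_eq_self {g x : G} (h : Commute g x) : g * x * g⁻¹ = x := by rw [h.eq, mul_inv_cancel_right]

/-- The data for gluing. -/
structure Glue (K : Type*) [Field K] (n : ℕ) (G : Type*) [Group G] where
  S : Rels K n G
  T : Rels K 3 G
  a : Fin n
  b : Fin n
  hab : a ≠ b
  third : ∀ i j : Fin n, ∃ k, k ≠ i ∧ k ≠ j
  h01 : ∀ t, S.x a b t = T.x 0 1 t
  h10 : ∀ t, S.x b a t = T.x 1 0 t
  hc : ∀ p q, p ≠ q → p ≠ b → q ≠ b → ∀ s t, Commute (S.x p q s) (T.x 1 2 t)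
  hc' : ∀ p q, p ≠ q → p ≠ b → q ≠ b → ∀ s t, Commute (S.x p q s) (T.x 2 1 t)

namespace Glue

variable (D : Glue K n G)

/-- The dual data. -/
def flip : Glue K n G where
  S := dual D.S
  T := dual D.T
  a := D.a
  b := D.b
  hab := D.hab
  third := D.third
  h01 t := D.h10 (-t)
  h10 t := D.h01 (-t)
  hc p q h hp hq s t := D.hc' q p h.symm hq hp (-s) (-t)
  hc' p q h hp hq s t := D.hc q p h.symm hq hp (-s) (-t)

/-- The Weyl element exchanging `i` and `b`. -/
def P (i : Fin n) : G := D.S.w i D.b 1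

/-- The new column. -/
def col (i : Fin n) (t : K) : G := if i = D.b then D.T.x 1 2 t else D.P i * D.T.x 1 2 t * (D.P i)⁻¹

/-- The new row. -/
def row (i : Fin n) (t : K) : G := D.flip.col i (-t)

theorem col_b (t : K) : D.col D.b t = D.T.x 1 2 t := if_pos rfl

theorem col_of_ne {i : Fin n} (hi : i ≠ D.b) (t : K) : D.col i t = D.P i * D.T.x 1 2 t * (D.P i)⁻¹ :=
  if_neg hi

theorem col_a (t : K) : D.col D.a t = D.T.x 0 2 t := by
  have hP : D.P D.a = D.T.w 0 1 1 := by simp only [P, Rels.w, D.h01, D.h10]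
  rw [D.col_of_ne D.hab, hP, D.T.w_jk (by decide) (by decide) (by decide) one_ne_zero, one_mul]

theorem flip_P {i : Fin n} (hi : i ≠ D.b) : D.flip.P i = D.P i := by
  obtain ⟨k, hki, hkb⟩ := D.third i D.b
  have h1 : D.flip.P i = D.S.w D.b i (-1) := by
    simp only [P, Rels.w, flip, dual, inv_neg, inv_one, neg_neg]
  rw [h1, w_braid D.S hi hki hkb]; rfl

theorem row_b (t : K) : D.row D.b t = D.T.x 2 1 t :=
  (D.flip.col_b (-t)).trans (congrArg (D.T.x 2 1) (neg_neg t))

theorem row_a (t : K) : D.row D.a t = D.T.x 2 0 t :=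
  (D.flip.col_a (-t)).trans (congrArg (D.T.x 2 0) (neg_neg t))

theorem row_of_ne {i : Fin n} (hi : i ≠ D.b) (t : K) : D.row i t = D.P i * D.T.x 2 1 t * (D.P i)⁻¹ := by
  rw [row, D.flip.col_of_ne hi, D.flip_P hi]
  simp only [flip, dual, neg_neg]

theorem col_add (i : Fin n) (t u : K) : D.col i (t + u) = D.col i t * D.col i u := by
  rcases eq_or_ne i D.b with rfl | hi
  · simp only [col_b, D.T.add 1 2 (by decide)]
  · simp only [D.col_of_ne hi, D.T.add 1 2 (by decide)]; group

theorem comm_X {k l : Fin n} (hkl : k ≠ l) (hl : l ≠ D.b) (c t : K) : Commute (D.S.x k l c) (D.T.x 1 2 t) := by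
  rcases eq_or_ne k D.b with rfl | hk
  · have h0 : ∀ c, Commute (D.S.x D.b D.a c) (D.T.x 1 2 t) := fun c => by
      rw [D.h10]; exact D.T.comm 1 0 1 2 (by decide) (by decide) (by decide) (by decide) c t
    rcases eq_or_ne l D.a with rfl | hla
    · exact h0 c
    · have h := D.S.chain D.b D.a l D.hab.symm hla.symm hkl c 1
      rw [mul_one] at h
      rw [show D.S.x D.b l c =
        D.S.x D.b D.a c * D.S.x D.a l 1 * (D.S.x D.b D.a c)⁻¹ * (D.S.x D.a l 1)⁻¹ by rw [h]; group]
      exact (((h0 c).mul_left (D.hc _ _ hla.symm D.hab hl 1 t)).mul_left (h0 c).inv_left).mul_left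
        (D.hc _ _ hla.symm D.hab hl 1 t).inv_left
  · exact D.hc k l hkl hk hl c t

theorem exists_pull {i k l : Fin n} (hi : i ≠ D.b) (hkl : k ≠ l) (hli : l ≠ i) (c : K) :
    ∃ k' l' s, k' ≠ l' ∧ l' ≠ D.b ∧ D.S.x k l c = D.P i * D.S.x k' l' s * (D.P i)⁻¹ := by
  unfold P
  rcases eq_or_ne k i with rfl | hki
  · rcases eq_or_ne l D.b with rfl | hlb
    · obtain ⟨m, hm1, hm2⟩ := D.third k D.b
      exact ⟨D.b, k, -c, hkl.symm, hi, by rw [w_y_one D.S hi hm1 hm2, neg_neg]⟩
    · exact ⟨D.b, l, c, hlb.symm, hlb, by rw [D.S.w_jk hi hkl hlb.symm one_ne_zero, one_mul]⟩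
  rcases eq_or_ne k D.b with rfl | hkb
  · exact ⟨i, l, -c, hli.symm, hkl.symm, by rw [D.S.w_ik hi hli.symm hkl one_ne_zero]; congr 1; simp⟩
  rcases eq_or_ne l D.b with rfl | hlb
  · exact ⟨k, i, -c, hki, hi, by rw [D.S.w_ki hi hki hkb one_ne_zero]; congr 1; simp⟩
  exact ⟨k, l, c, hkl, hlb, (D.S.w_fix hi hkl hki hkb hli hlb 1 c).symm⟩

theorem comm_col {i k l : Fin n} (hkl : k ≠ l) (hli : l ≠ i) (c t : K) :
    Commute (D.S.x k l c) (D.col i t) := by
  rcases eq_or_ne i D.b with rfl | hi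
  · rw [D.col_b]; exact D.comm_X hkl hli c t
  · obtain ⟨k', l', s, h1, h2, e⟩ := D.exists_pull hi hkl hli c
    rw [e, D.col_of_ne hi]
    exact Commute.conj_iff (D.P i) |>.2 (D.comm_X h1 h2 s t)

theorem P_comm_col {i j : Fin n} (hj : j ≠ D.b) (hib : i ≠ D.b) (hij : i ≠ j) (t : K) :
    Commute (D.P j) (D.col i t) := by
  unfold P Rels.w
  exact (((D.comm_col hj hib.symm _ t).mul_left (D.comm_col hj.symm hij.symm _ t))).mul_left
    (D.comm_col hj hib.symm _ t)

/-- An element moving `a` to `k` and fixing `b` and the new index. -/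
theorem move {k : Fin n} (hk : k ≠ D.b) :
    ∃ W : G, (∀ t, Commute W (D.T.x 1 2 t)) ∧ (∀ t, Commute W (D.T.x 2 1 t)) ∧
      (∀ t, W * D.S.x D.a D.b t * W⁻¹ = D.S.x k D.b t) ∧
      (∀ t, W * D.S.x D.b D.a t * W⁻¹ = D.S.x D.b k t) ∧
      W * D.P D.a * W⁻¹ = D.P k := by
  rcases eq_or_ne k D.a with rfl | hka
  · exact ⟨1, fun _ => Commute.one_left _, fun _ => Commute.one_left _, by simp, by simp, by simp⟩
  set W := D.S.w k D.a 1
  have h1 : ∀ t, W * D.S.x D.a D.b t * W⁻¹ = D.S.x k D.b t := fun t => by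
    rw [D.S.w_jk hka hk D.hab one_ne_zero, one_mul]
  have h2 : ∀ t, W * D.S.x D.b D.a t * W⁻¹ = D.S.x D.b k t := fun t => by
    rw [D.S.w_kj hka hk.symm D.hab.symm one_ne_zero]; simp
  refine ⟨W, fun t => ?_, fun t => ?_, h1, h2, ?_⟩
  · exact ((D.hc _ _ hka hk D.hab _ t).mul_left (D.hc _ _ hka.symm D.hab hk _ t)).mul_left (D.hc _ _ hka hk D.hab _ t)
  · exact ((D.hc' _ _ hka hk D.hab _ t).mul_left (D.hc' _ _ hka.symm D.hab hk _ t)).mul_left (D.hc' _ _ hka hk D.hab _ t)
  · unfold P Rels.w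
    rw [← conj_mul, ← conj_mul, h1, h2]

theorem move_col {k : Fin n} (hk : k ≠ D.b) {W : G} (hW : ∀ t, Commute W (D.T.x 1 2 t))
    (hP : W * D.P D.a * W⁻¹ = D.P k) (t : K) : W * D.col D.a t * W⁻¹ = D.col k t := by
  rw [D.col_of_ne D.hab, D.col_of_ne hk, ← hP]
  nth_rewrite 2 [← conj_eq_self (hW t)]
  group

theorem move_row {k : Fin n} (hk : k ≠ D.b) {W : G} (hW : ∀ t, Commute W (D.T.x 2 1 t))
    (hP : W * D.P D.a * W⁻¹ = D.P k) (t : K) : W * D.row D.a t * W⁻¹ = D.row k t := by
  rw [D.row_of_ne D.hab, D.row_of_ne hk, ← hP]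
  nth_rewrite 2 [← conj_eq_self (hW t)]
  group

theorem col_X (i : Fin n) (t u : K) : Commute (D.col i t) (D.T.x 1 2 u) := by
  rcases eq_or_ne i D.b with rfl | hi
  · rw [← D.col_b u, Commute, SemiconjBy, ← D.col_add, ← D.col_add, add_comm]
  · obtain ⟨W, hW, -, -, -, hP⟩ := D.move hi
    rw [← D.move_col hi hW hP, ← conj_eq_self (hW u)]
    refine (Commute.conj_iff W).2 ?_
    rw [D.col_a]
    exact D.T.comm 0 2 1 2 (by decide) (by decide) (by decide) (by decide) t u

theorem col_col (i j : Fin n) (t u : K) : Commute (D.col i t) (D.col j u) := by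
  rcases eq_or_ne j D.b with rfl | hj
  · rw [D.col_b]; exact D.col_X i t u
  rcases eq_or_ne i D.b with rfl | hi
  · rw [D.col_b]; exact (D.col_X j u t).symm
  rcases eq_or_ne i j with rfl | hij
  · rw [Commute, SemiconjBy, ← D.col_add, ← D.col_add, add_comm]
  · rw [D.col_of_ne hj, ← conj_eq_self (D.P_comm_col hj hi hij t)]
    exact (Commute.conj_iff (D.P j)).2 (D.col_X i t u)

theorem col_chain {k i : Fin n} (hki : k ≠ i) (c t : K) :
    D.S.x k i c * D.col i t = D.col k (c * t) * D.col i t * D.S.x k i c := by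
  have base1 : ∀ k, k ≠ D.b → ∀ c t,
      D.S.x k D.b c * D.col D.b t = D.col k (c * t) * D.col D.b t * D.S.x k D.b c := by
    intro k hk c t
    obtain ⟨W, hW, -, h1, -, hP⟩ := D.move hk
    rw [← h1, ← D.move_col hk hW hP, D.col_b, ← conj_eq_self (hW t)]
    refine chain_conj W ?_
    rw [D.h01, D.col_a]
    exact D.T.chain 0 1 2 (by decide) (by decide) (by decide) c t
  rcases eq_or_ne i D.b with rfl | hi
  · exact base1 k hki c t
  rcases eq_or_ne k D.b with rfl | hk
  · obtain ⟨W, hW, -, -, h2, hP⟩ := D.move hi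
    rw [← h2, ← D.move_col hi hW hP, D.col_b, ← conj_eq_self (hW (c * t))]
    refine chain_conj W ?_
    rw [D.h10, D.col_a]
    exact D.T.chain 1 0 2 (by decide) (by decide) (by decide) c t
  · have e : D.P i * D.S.x k D.b c * (D.P i)⁻¹ = D.S.x k i c := by
      rw [P, D.S.w_kj hi hki hk one_ne_zero]; simp
    rw [← e, D.col_of_ne hi, ← conj_eq_self (D.P_comm_col hi hk hki (c * t))]
    refine chain_conj _ ?_
    have := base1 k hk c t
    rwa [D.col_b] at this

theorem col_row {i j : Fin n} (hij : i ≠ j) (t u : K) :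
    D.col i t * D.row j u = D.S.x i j (t * u) * D.row j u * D.col i t := by
  have base1 : ∀ i, i ≠ D.b → ∀ t u,
      D.col i t * D.row D.b u = D.S.x i D.b (t * u) * D.row D.b u * D.col i t := by
    intro i hi t u
    obtain ⟨W, hW, hW', h1, -, hP⟩ := D.move hi
    rw [← h1, ← D.move_col hi hW hP, D.row_b, ← conj_eq_self (hW' u)]
    refine chain_conj W ?_
    rw [D.h01, D.col_a]
    exact D.T.chain 0 2 1 (by decide) (by decide) (by decide) t u
  rcases eq_or_ne j D.b with rfl | hj
  · exact base1 i hij t u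
  rcases eq_or_ne i D.b with rfl | hi
  · obtain ⟨W, hW, hW', -, h2, hP⟩ := D.move hj
    rw [← h2, ← D.move_row hj hW' hP, D.col_b, ← conj_eq_self (hW t)]
    refine chain_conj W ?_
    rw [D.h10, D.row_a]
    exact D.T.chain 1 2 0 (by decide) (by decide) (by decide) t u
  · have e : D.P j * D.S.x i D.b (t * u) * (D.P j)⁻¹ = D.S.x i j (t * u) := by
      rw [P, D.S.w_kj hj hij hi one_ne_zero]; simp
    rw [← e, D.row_of_ne hj, ← conj_eq_self (D.P_comm_col hj hi hij t)]
    refine chain_conj _ ?_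
    have := base1 i hi t u
    rwa [D.row_b] at this

theorem row_add (i : Fin n) (t u : K) : D.row i (t + u) = D.row i t * D.row i u := by
  rw [row, neg_add, D.flip.col_add]; rfl

theorem row_row (i j : Fin n) (t u : K) : Commute (D.row i t) (D.row j u) := D.flip.col_col i j _ _

theorem comm_row {i k l : Fin n} (hkl : k ≠ l) (hki : k ≠ i) (c t : K) :
    Commute (D.S.x k l c) (D.row i t) := by
  have h := D.flip.comm_col (i := i) hkl.symm hki (-c) (-t)
  simpa [row, flip, dual] using h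

theorem row_chain {j l : Fin n} (hjl : j ≠ l) (t u : K) :
    D.row j t * D.S.x j l u = D.row l (t * u) * D.S.x j l u * D.row j t := by
  have h := D.flip.col_chain (k := l) (i := j) hjl.symm (-u) (-t)
  have h' : D.S.x j l u * D.row j t = (D.row l (t * u))⁻¹ * D.row j t * D.S.x j l u := by
    have hinv : (D.row l (t * u))⁻¹ = D.flip.col l (-u * -t) := by
      rw [row, inv_eq_iff_mul_eq_one, ← D.flip.col_add]
      have hz : -(t * u) + -u * -t = 0 := by ring
      rw [hz]
      have h0 := D.flip.col_add l 0 0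
      rw [add_zero] at h0
      exact mul_left_cancel ((mul_one _).trans h0) |>.symm
    rw [hinv]
    simpa [row, flip, dual] using h
  rw [mul_assoc, h']
  group

/-- **Gluing**: the relations of rank `n`. -/
theorem extend : ∃ R : Rels K (n + 1) G,
    (∀ i j t, R.x (Fin.castSucc i) (Fin.castSucc j) t = D.S.x i j t) ∧
    (∀ t, R.x (Fin.castSucc D.b) (Fin.last n) t = D.T.x 1 2 t) ∧
    (∀ t, R.x (Fin.last n) (Fin.castSucc D.b) t = D.T.x 2 1 t) := by
  let x : Fin (n + 1) → Fin (n + 1) → K → G := fun p q t =>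
    Fin.lastCases (Fin.lastCases 1 (fun j => D.row j t) q)
      (fun i => Fin.lastCases (D.col i t) (fun j => D.S.x i j t) q) p
  have xSS : ∀ i j t, x (Fin.castSucc i) (Fin.castSucc j) t = D.S.x i j t := fun i j t => by simp [x]
  have xSL : ∀ i t, x (Fin.castSucc i) (Fin.last n) t = D.col i t := fun i t => by simp [x]
  have xLS : ∀ j t, x (Fin.last n) (Fin.castSucc j) t = D.row j t := fun j t => by simp [x]
  refine ⟨{ x := x, add := ?_, comm := ?_, chain := ?_ }, xSS, fun t => (xSL _ t).trans (D.col_b t),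
    fun t => (xLS _ t).trans (D.row_b t)⟩
  · intro p q h t u
    induction p using Fin.lastCases <;> induction q using Fin.lastCases
    · exact absurd rfl h
    · simp only [xLS, D.row_add]
    · simp only [xSL, D.col_add]
    · rename_i i j
      simp only [xSS]
      exact D.S.add i j (fun e => h (congrArg Fin.castSucc e)) t u
  · intro p q r s h1 h2 h3 h4 t u
    induction p using Fin.lastCases <;> induction q using Fin.lastCases <;>
      induction r using Fin.lastCases <;> induction s using Fin.lastCases <;>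
      simp_all only [ne_eq, not_true, not_false_eq_true, xSS, xSL, xLS, Fin.castSucc_inj]
    all_goals first
      | exact D.S.comm _ _ _ _ h1 h2 h3 h4 t u
      | exact (D.col_col _ _ t u).eq
      | exact (D.row_row _ _ t u).eq
      | exact (D.comm_col h1 h4 t u).eq
      | exact (D.comm_col h2 (Ne.symm h3) u t).eq.symm
      | exact (D.comm_row h1 h3 t u).eq
      | exact (D.comm_row h2 (Ne.symm h4) u t).eq.symm
  · intro p q s h1 h2 h3 t u
    induction p using Fin.lastCases <;> induction q using Fin.lastCases <;>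
      induction s using Fin.lastCases <;>
      simp_all only [ne_eq, not_true, not_false_eq_true, xSS, xSL, xLS, Fin.castSucc_inj]
    all_goals first
      | exact D.S.chain _ _ _ h1 h2 h3 t u
      | exact D.col_chain h1 t u
      | exact D.col_row h3 t u
      | exact D.row_chain h2 t u

end Glue

end Cfsg.Agent.CurtisTits
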