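import Cfsg.Agent.Lib.CurtisTits.Rels

/-!
Steinberg relations of type `D` on signed indices: `x a b` belongs to the root `ε_a - ε_b`.
-/

set_option autoImplicit false

namespace Cfsg.Agent.CurtisTits

open SL2Presentation

/-- Signed indices. -/
abbrev SIdx (n : ℕ) : Type := Fin n ⊕ Fin n

namespace DType

variable {n : ℕ}

/-- The level of a signed index. -/
def lv : SIdx n → Fin n := Sum.elim id id

/-- The opposite index. -/
abbrev ng (a : SIdx n) : SIdx n := Sum.swap a

theorem ng_ng (a : SIdx n) : ng (ng a) = a := Sum.swap_swap a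

theorem lv_ng (a : SIdx n) : lv (ng a) = lv a := by rcases a with i | i <;> rfl

theorem lv_eq {a b : SIdx n} : lv a = lv b ↔ a = b ∨ a = ng b := by
  rcases a with i | i <;> rcases b with j | j <;> simp [lv]

theorem lv_ne {a b : SIdx n} : lv a ≠ lv b ↔ a ≠ b ∧ a ≠ ng b := by
  rw [ne_eq, lv_eq, not_or]

theorem ng_ne (a : SIdx n) : ng a ≠ a := by rcases a with i | i <;> simp

theorem ng_inj {a b : SIdx n} : ng a = ng b ↔ a = b := ⟨fun h => by rw [← ng_ng a, h, ng_ng], congrArg _⟩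

/-- The position in the order `e_0 < ⋯ < e_{n-1} < f_{n-1} < ⋯ < f_0`. -/
def pos : SIdx n → ℕ
  | .inl i => i.val
  | .inr i => 2 * n - 1 - i.val

theorem pos_inj {a b : SIdx n} (h : pos a = pos b) : a = b := by
  rcases a with i | i <;> rcases b with j | j <;> simp only [pos] at h <;>
    have := i.isLt <;> have := j.isLt <;>
    first | exact congrArg _ (Fin.ext (by omega)) | omega

theorem pos_ng (a : SIdx n) : pos (ng a) + pos a = 2 * n - 1 := by
  rcases a with i | i <;> simp only [ng, Sum.swap_inl, Sum.swap_inr, pos] <;> have := i.isLt <;> omega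

theorem pos_lt (a : SIdx n) : pos a < 2 * n := by
  rcases a with i | i <;> simp only [pos] <;> have := i.isLt <;> omega

/-- The signed transposition of `a` and `b`. -/
def sw (a b : SIdx n) : Equiv.Perm (SIdx n) := Equiv.swap a b * Equiv.swap (ng a) (ng b)

theorem sw_apply_of_ne {a b c : SIdx n} (h1 : lv c ≠ lv a) (h2 : lv c ≠ lv b) : sw a b c = c := by
  rw [lv_ne] at h1 h2
  rw [sw, Equiv.Perm.mul_apply, Equiv.swap_apply_of_ne_of_ne h1.2 h2.2, Equiv.swap_apply_of_ne_of_ne h1.1 h2.1]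

theorem sw_left {a b : SIdx n} (h : lv a ≠ lv b) : sw a b a = b := by
  rw [lv_ne] at h
  rw [sw, Equiv.Perm.mul_apply, Equiv.swap_apply_of_ne_of_ne (ng_ne a).symm h.2, Equiv.swap_apply_left]

theorem sw_right {a b : SIdx n} (h : lv a ≠ lv b) : sw a b b = a := by
  rw [lv_ne] at h
  have h' : b ≠ ng a := fun e => h.2 (by rw [e, ng_ng])
  rw [sw, Equiv.Perm.mul_apply, Equiv.swap_apply_of_ne_of_ne h' (ng_ne b).symm, Equiv.swap_apply_right]

theorem sw_ng {a b : SIdx n} (h : lv a ≠ lv b) (c : SIdx n) : sw a b (ng c) = ng (sw a b c) := by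
  have hh := lv_ne.1 h
  have hl : sw a b (ng a) = ng b := by
    rw [sw, Equiv.Perm.mul_apply, Equiv.swap_apply_left,
      Equiv.swap_apply_of_ne_of_ne (fun e => hh.2 e.symm) (ng_ne b)]
  have hr : sw a b (ng b) = ng a := by
    rw [sw, Equiv.Perm.mul_apply, Equiv.swap_apply_right,
      Equiv.swap_apply_of_ne_of_ne (ng_ne a) (fun e => hh.2 (by rw [← e, ng_ng]))]
  by_cases h1 : lv c = lv a
  · rcases lv_eq.1 h1 with rfl | rfl
    · rw [hl, sw_left h]
    · rw [ng_ng, sw_left h, hl, ng_ng]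
  by_cases h2 : lv c = lv b
  · rcases lv_eq.1 h2 with rfl | rfl
    · rw [hr, sw_right h]
    · rw [ng_ng, sw_right h, hr, ng_ng]
  rw [sw_apply_of_ne h1 h2, sw_apply_of_ne (by rwa [lv_ng]) (by rwa [lv_ng])]

theorem lv_sw_ne {a b c d : SIdx n} (h : lv a ≠ lv b) (hcd : lv c ≠ lv d) :
    lv (sw a b c) ≠ lv (sw a b d) := by
  rw [lv_ne] at hcd ⊢
  exact ⟨fun e => hcd.1 ((sw a b).injective e), fun e => hcd.2 ((sw a b).injective (by rw [sw_ng h]; exact e))⟩

theorem sw_sw {a b : SIdx n} (h : lv a ≠ lv b) (c : SIdx n) : sw a b (sw a b c) = c := by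
  by_cases h1 : lv c = lv a
  · rcases lv_eq.1 h1 with rfl | rfl
    · rw [sw_left h, sw_right h]
    · rw [sw_ng h, sw_left h, sw_ng h, sw_right h]
  by_cases h2 : lv c = lv b
  · rcases lv_eq.1 h2 with rfl | rfl
    · rw [sw_right h, sw_left h]
    · rw [sw_ng h, sw_right h, sw_ng h, sw_left h]
  rw [sw_apply_of_ne h1 h2, sw_apply_of_ne h1 h2]

end DType

open DType

/-- The relations of type `D_n`. -/
structure RelsD (K : Type*) [Field K] (n : ℕ) (G : Type*) [Group G] where
  /-- the root elements -/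
  x : SIdx n → SIdx n → K → G
  add : ∀ a b, lv a ≠ lv b → ∀ t u, x a b (t + u) = x a b t * x a b u
  symm : ∀ a b, lv a ≠ lv b → ∀ t, x (ng b) (ng a) t = x a b (-t)
  comm : ∀ a b c d, lv a ≠ lv b → lv c ≠ lv d → a ≠ d → b ≠ c → a ≠ ng c → b ≠ ng d → ∀ t u,
    Commute (x a b t) (x c d u)
  comm2 : ∀ a b, lv a ≠ lv b → ∀ t u, Commute (x a b t) (x a (ng b) u)
  chain : ∀ a b c, lv a ≠ lv b → lv b ≠ lv c → lv a ≠ lv c → ∀ t u,
    x a b t * x b c u = x a c (t * u) * x b c u * x a b t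

namespace RelsD

variable {K : Type*} [Field K] {n : ℕ} {G : Type*} [Group G] (R : RelsD K n G)

/-- The relations on a set of indices of distinct levels. -/
def frame {k : ℕ} (f : Fin k → SIdx n) (hf : Function.Injective (lv ∘ f)) : Rels K k G where
  x i j t := R.x (f i) (f j) t
  add i j h := R.add _ _ (hf.ne h)
  comm i j k l h1 h2 h3 h4 t u := (R.comm _ _ _ _ (hf.ne h1) (hf.ne h2)
    (fun e => h3 (hf (congrArg lv e))) (fun e => h4 (hf (congrArg lv e)))
    (fun e => by
      have hik : i = k := hf (show lv (f i) = lv (f k) by rw [e, lv_ng])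
      subst hik
      exact ng_ne _ e.symm)
    (fun e => by
      have hjl : j = l := hf (show lv (f j) = lv (f l) by rw [e, lv_ng])
      subst hjl
      exact ng_ne _ e.symm) t u).eq
  chain i j l h1 h2 h3 := R.chain _ _ _ (hf.ne h1) (hf.ne h2) (hf.ne h3)

theorem inj3 {a b c : SIdx n} (h1 : lv a ≠ lv b) (h2 : lv b ≠ lv c) (h3 : lv a ≠ lv c) :
    Function.Injective (lv ∘ ![a, b, c]) := by
  intro i j h
  fin_cases i <;> fin_cases j <;> simp_all [eq_comm]

/-- The relations on three indices. -/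
def tri {a b c : SIdx n} (h1 : lv a ≠ lv b) (h2 : lv b ≠ lv c) (h3 : lv a ≠ lv c) : Rels K 3 G :=
  R.frame ![a, b, c] (inj3 h1 h2 h3)

theorem x_zero {a b : SIdx n} (h : lv a ≠ lv b) : R.x a b 0 = 1 := psi_zero (R.add a b h)

theorem x_neg {a b : SIdx n} (h : lv a ≠ lv b) (t : K) : R.x a b (-t) = (R.x a b t)⁻¹ := by
  apply eq_inv_of_mul_eq_one_left
  rw [← R.add a b h, neg_add_cancel, R.x_zero h]

/-- The Weyl elements. -/
def w (a b : SIdx n) (t : K) : G := R.x a b t * R.x b a (-t⁻¹) * R.x a b t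

theorem w_neg {a b : SIdx n} (h : lv a ≠ lv b) (t : K) : R.w a b (-t) = (R.w a b t)⁻¹ := by
  simp only [w, inv_neg, neg_neg, R.x_neg h, R.x_neg h.symm, mul_inv_rev, inv_inv, mul_assoc]

theorem exists_third (hn : 3 ≤ n) (a b : SIdx n) : ∃ c : SIdx n, lv a ≠ lv c ∧ lv b ≠ lv c := by
  have : ({lv a, lv b} : Finset (Fin n))ᶜ.Nonempty := by
    rw [← Finset.card_pos, Finset.card_compl, Fintype.card_fin]
    have := Finset.card_le_two (a := lv a) (b := lv b)
    omega
  obtain ⟨m, hm⟩ := this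
  simp at hm
  exact ⟨.inl m, Ne.symm hm.1, Ne.symm hm.2⟩

/-- The Weyl elements permute the root elements. -/
theorem w_conj (hn : 3 ≤ n) {a b c d : SIdx n} (hab : lv a ≠ lv b) (hcd : lv c ≠ lv d) {t : K} (ht : t ≠ 0)
    (u : K) : ∃ s, R.w a b t * R.x c d u * (R.w a b t)⁻¹ = R.x (sw a b c) (sw a b d) s := by
  -- passing to the other name of a root
  have flip : ∀ {c d : SIdx n}, lv c ≠ lv d →
      (∀ u, ∃ s, R.w a b t * R.x c d u * (R.w a b t)⁻¹ = R.x (sw a b c) (sw a b d) s) → ∀ u,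
      ∃ s, R.w a b t * R.x (ng d) (ng c) u * (R.w a b t)⁻¹ = R.x (sw a b (ng d)) (sw a b (ng c)) s := by
    intro c d hcd h u
    obtain ⟨s, hs⟩ := h (-u)
    refine ⟨-s, ?_⟩
    rw [R.symm c d hcd, hs, sw_ng hab, sw_ng hab, R.symm _ _ (lv_sw_ne hab hcd), neg_neg]
  -- one level outside
  have one : ∀ {c d : SIdx n}, lv c ≠ lv d → lv d ≠ lv a → lv d ≠ lv b → (c = a ∨ c = b) → ∀ u,
      ∃ s, R.w a b t * R.x c d u * (R.w a b t)⁻¹ = R.x (sw a b c) (sw a b d) s := by
    intro c d hcd hda hdb hc u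
    let T := R.tri hab hdb.symm hda.symm
    rw [sw_apply_of_ne hda hdb]
    rcases hc with rfl | rfl
    · exact ⟨_, by rw [sw_left hab]; exact T.w_ik (i := 0) (j := 1) (k := 2) (by decide) (by decide) (by decide) ht u⟩
    · exact ⟨_, by rw [sw_right hab]; exact T.w_jk (i := 0) (j := 1) (k := 2) (by decide) (by decide) (by decide) ht u⟩
  have one' : ∀ {c d : SIdx n}, lv c ≠ lv d → lv c ≠ lv a → lv c ≠ lv b → (d = a ∨ d = b) → ∀ u,
      ∃ s, R.w a b t * R.x c d u * (R.w a b t)⁻¹ = R.x (sw a b c) (sw a b d) s := by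
    intro c d hcd hca hcb hd u
    let T := R.tri hab hcb.symm hca.symm
    rw [sw_apply_of_ne hca hcb]
    rcases hd with rfl | rfl
    · exact ⟨_, by rw [sw_left hab]; exact T.w_ki (i := 0) (j := 1) (k := 2) (by decide) (by decide) (by decide) ht u⟩
    · exact ⟨_, by rw [sw_right hab]; exact T.w_kj (i := 0) (j := 1) (k := 2) (by decide) (by decide) (by decide) ht u⟩
  -- both levels inside
  have both : ∀ u, (∃ s, R.w a b t * R.x a b u * (R.w a b t)⁻¹ = R.x (sw a b a) (sw a b b) s) ∧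
      (∃ s, R.w a b t * R.x b a u * (R.w a b t)⁻¹ = R.x (sw a b b) (sw a b a) s) ∧
      (∃ s, R.w a b t * R.x a (ng b) u * (R.w a b t)⁻¹ = R.x (sw a b a) (sw a b (ng b)) s) ∧
      (∃ s, R.w a b t * R.x (ng b) a u * (R.w a b t)⁻¹ = R.x (sw a b (ng b)) (sw a b a) s) := by
    intro u
    obtain ⟨c, hac, hbc⟩ := exists_third hn a b
    let T := R.tri hab hbc hac
    simp only [sw_left hab, sw_right hab, sw_ng hab]
    refine ⟨⟨_, T.rel_of_third (i := 0) (j := 1) (k := 2) (by decide) (by decide) (by decide) t u ht⟩, ?_, ?_, ?_⟩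
    · refine ⟨-(t ^ 2 * u), ?_⟩
      have h1 := T.rel_of_third (i := 0) (j := 1) (k := 2) (by decide) (by decide) (by decide) (-t)
        (-(t ^ 2 * u)) (neg_ne_zero.2 ht)
      have hw : R.w a b (-t) = (R.w a b t)⁻¹ := R.w_neg hab t
      change R.w a b (-t) * R.x a b _ * (R.w a b (-t))⁻¹ = R.x b a _ at h1
      rw [hw, inv_inv, show -((-t)⁻¹ ^ 2 * -(t ^ 2 * u)) = u by field_simp] at h1
      rw [← h1]; group
    · have h1 : Commute (R.x a b t) (R.x a (ng b) u) := R.comm2 a b hab t u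
      have h2 : Commute (R.x b a (-t⁻¹)) (R.x a (ng b) u) := by
        have h := R.comm2 b a hab.symm (-t⁻¹) (-u)
        rw [← R.symm b (ng a) (by rwa [lv_ng, ne_comm]), ng_ng] at h
        exact h
      refine ⟨-u, ?_⟩
      rw [w, ((h1.mul_left h2).mul_left h1).eq, mul_inv_cancel_right,
        ← R.symm b (ng a) (by rwa [lv_ng, ne_comm]), ng_ng]
    · have h1 : Commute (R.x a b t) (R.x (ng b) a u) := by
        have h := R.comm2 (ng b) (ng a) (by rwa [lv_ng, lv_ng, ne_comm]) (-t) u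
        rwa [R.symm a b hab, neg_neg, ng_ng] at h
      have h2 : Commute (R.x b a (-t⁻¹)) (R.x (ng b) a u) := by
        have h := R.comm2 (ng a) (ng b) (by rwa [lv_ng, lv_ng]) t⁻¹ (-u)
        rw [R.symm b a hab.symm, ng_ng] at h
        rwa [← R.symm (ng a) b (by rwa [lv_ng]), ng_ng] at h
      refine ⟨-u, ?_⟩
      rw [w, ((h1.mul_left h2).mul_left h1).eq, mul_inv_cancel_right,
        ← R.symm (ng a) b (by rwa [lv_ng]), ng_ng]
  by_cases hc : lv c = lv a ∨ lv c = lv b
  · by_cases hd : lv d = lv a ∨ lv d = lv b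
    · have hc' : c = a ∨ c = ng a ∨ c = b ∨ c = ng b := by
        rcases hc with h | h <;> rcases lv_eq.1 h with h | h <;> simp [h]
      have hd' : d = a ∨ d = ng a ∨ d = b ∨ d = ng b := by
        rcases hd with h | h <;> rcases lv_eq.1 h with h | h <;> simp [h]
      have f : ∀ {c d}, lv c ≠ lv d →
          (∀ u, ∃ s, R.w a b t * R.x c d u * (R.w a b t)⁻¹ = R.x (sw a b c) (sw a b d) s) → ∀ u,
          ∃ s, R.w a b t * R.x (ng d) (ng c) u * (R.w a b t)⁻¹ = R.x (sw a b (ng d)) (sw a b (ng c)) s := flip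
      have e1 := f hab fun u => (both u).1
      have e2 := f hab.symm fun u => (both u).2.1
      have e3 := f (c := a) (d := ng b) (by rwa [lv_ng]) fun u => (both u).2.2.1
      have e4 := f (c := ng b) (d := a) (by rw [lv_ng]; exact hab.symm) fun u => (both u).2.2.2
      simp only [ng_ng] at e1 e2 e3 e4
      rcases hc' with rfl | rfl | rfl | rfl <;> rcases hd' with rfl | rfl | rfl | rfl <;>
        first
        | exact absurd rfl hcd
        | exact absurd (lv_ng _) hcd
        | exact absurd (lv_ng _).symm hcd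
        | exact (both u).1
        | exact (both u).2.1
        | exact (both u).2.2.1
        | exact (both u).2.2.2
        | exact e1 u
        | exact e2 u
        | exact e3 u
        | exact e4 u
    · rw [not_or] at hd
      have hd1 : lv (ng d) ≠ lv a := by rw [lv_ng]; exact hd.1
      have hd2 : lv (ng d) ≠ lv b := by rw [lv_ng]; exact hd.2
      rcases hc with h | h <;> rcases lv_eq.1 h with rfl | rfl
      · exact one hcd hd.1 hd.2 (Or.inl rfl) u
      · have := flip (c := ng d) (d := a) hd1 (one' hd1 hd1 hd2 (Or.inl rfl)) u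
        rwa [ng_ng] at this
      · exact one hcd hd.1 hd.2 (Or.inr rfl) u
      · have := flip (c := ng d) (d := b) hd2 (one' hd2 hd1 hd2 (Or.inr rfl)) u
        rwa [ng_ng] at this
  · rw [not_or] at hc
    have hc1 : lv (ng c) ≠ lv a := by rw [lv_ng]; exact hc.1
    have hc2 : lv (ng c) ≠ lv b := by rw [lv_ng]; exact hc.2
    by_cases hd : lv d = lv a ∨ lv d = lv b
    · rcases hd with h | h <;> rcases lv_eq.1 h with rfl | rfl
      · exact one' hcd hc.1 hc.2 (Or.inl rfl) u
      · have := flip (c := a) (d := ng c) hc1.symm (one hc1.symm hc1 hc2 (Or.inl rfl)) u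
        rwa [ng_ng] at this
      · exact one' hcd hc.1 hc.2 (Or.inr rfl) u
      · have := flip (c := b) (d := ng c) hc2.symm (one hc2.symm hc1 hc2 (Or.inr rfl)) u
        rwa [ng_ng] at this
    · rw [not_or] at hd
      refine ⟨u, ?_⟩
      rw [sw_apply_of_ne hc.1 hc.2, sw_apply_of_ne hd.1 hd.2]
      have k : ∀ p q, (p = a ∧ q = b ∨ p = b ∧ q = a) → ∀ s, Commute (R.x p q s) (R.x c d u) := by
        intro p q hpq s
        have hp : lv p = lv a ∨ lv p = lv b := by rcases hpq with ⟨rfl, -⟩ | ⟨rfl, -⟩ <;> simp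
        have hq : lv q = lv a ∨ lv q = lv b := by rcases hpq with ⟨-, rfl⟩ | ⟨-, rfl⟩ <;> simp
        have ne : ∀ {p : SIdx n}, (lv p = lv a ∨ lv p = lv b) → lv p ≠ lv c ∧ lv p ≠ lv d := fun hp =>
          hp.elim (fun e => ⟨by rw [e]; exact Ne.symm hc.1, by rw [e]; exact Ne.symm hd.1⟩)
            fun e => ⟨by rw [e]; exact Ne.symm hc.2, by rw [e]; exact Ne.symm hd.2⟩
        refine R.comm p q c d ?_ hcd (fun e => (ne hp).2 (congrArg lv e)) (fun e => (ne hq).1 (congrArg lv e))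
          (fun e => (ne hp).1 (by rw [e, lv_ng])) (fun e => (ne hq).2 (by rw [e, lv_ng])) s u
        rcases hpq with ⟨rfl, rfl⟩ | ⟨rfl, rfl⟩
        · exact hab
        · exact hab.symm
      rw [w, (((k a b (Or.inl ⟨rfl, rfl⟩) t).mul_left (k b a (Or.inr ⟨rfl, rfl⟩) _)).mul_left
        (k a b (Or.inl ⟨rfl, rfl⟩) t)).eq, mul_inv_cancel_right]

end RelsD

end Cfsg.Agent.CurtisTits
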